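import Mathlib.FieldTheory.Galois.Basic
import Mathlib.FieldTheory.Perfect
import Mathlib.RingTheory.PowerSeries.Inverse
import Mathlib.RingTheory.IntegralClosure.IntegralRestrict
import Mathlib.RingTheory.RamificationInertia.Basic
import Mathlib.RingTheory.DedekindDomain.Dvr
import Mathlib.RingTheory.PrincipalIdealDomain

/-!
# Artin–Schreier normal form over a power series ring
-/

set_option autoImplicit false

universe u

namespace Groth.Agent.Lib.ASNormal98.Basic

/-- Artin–Schreier: a cyclic extension of degree `p` in characteristic `p` has a generator moved by `1`. -/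
theorem exists_generator (p : ℕ) [Fact p.Prime] (F E : Type u) [Field F] [Field E] [Algebra F E]
    [CharP E p] [IsGalois F E] [FiniteDimensional F E] (hdeg : Module.finrank F E = p) :
    ∃ (σ : E ≃ₐ[F] E) (x : E), σ x = x + 1 ∧ ∀ z, σ z = z → z ∈ Set.range (algebraMap F E) := by
  have hcard : Nat.card (E ≃ₐ[F] E) = p := by rw [IsGalois.card_aut_eq_finrank, hdeg]
  haveI : IsCyclic (E ≃ₐ[F] E) := isCyclic_of_prime_card hcard
  obtain ⟨σ, hσ⟩ := IsCyclic.exists_generator (α := E ≃ₐ[F] E)
  have hfix : ∀ z, σ z = z → z ∈ Set.range (algebraMap F E) := fun z hz => by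
    refine (IsGalois.mem_range_algebraMap_iff_fixed z).2 fun g => ?_
    have hmem : σ ∈ MulAction.stabilizer (E ≃ₐ[F] E) z := hz
    exact (Subgroup.zpowers_le.2 hmem) (hσ g)
  haveI : CharP F p := (RingHom.charP_iff (algebraMap F E) (algebraMap F E).injective p).2 inferInstance
  haveI : CharP (Module.End F E) p :=
    charP_of_injective_algebraMap (FaithfulSMul.algebraMap_injective F (Module.End F E)) p
  let T : Module.End F E := σ.toLinearMap - 1
  have hTp : T ^ p = 0 := by
    have hσp : σ ^ p = 1 := by rw [← hcard]; exact pow_card_eq_one'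
    rw [sub_pow_char_of_commute p (Commute.one_right (σ.toLinearMap : Module.End F E)), one_pow,
      ← AlgEquiv.pow_toLinearMap, hσp, sub_eq_zero]
    rfl
  have hTne : T ≠ 0 := by
    intro h
    have hσ1 : σ = 1 := AlgEquiv.ext fun z => by
      have := LinearMap.congr_fun h z
      simp only [T, LinearMap.sub_apply, Module.End.one_apply, LinearMap.zero_apply, sub_eq_zero] at this
      exact this
    have h1 : ∀ g : E ≃ₐ[F] E, g = 1 := fun g => by
      obtain ⟨n, rfl⟩ := Subgroup.mem_zpowers_iff.1 (hσ g)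
      rw [hσ1, one_zpow]
    have : Subsingleton (E ≃ₐ[F] E) := ⟨fun a b => (h1 a).trans (h1 b).symm⟩
    have := Nat.card_of_subsingleton (1 : E ≃ₐ[F] E)
    exact (Fact.out : p.Prime).one_lt.ne (this.symm.trans hcard)
  classical
  have hex : ∃ n, T ^ n = 0 := ⟨p, hTp⟩
  obtain ⟨n, hn⟩ : ∃ n, Nat.find hex = n + 2 := by
    refine ⟨Nat.find hex - 2, ?_⟩
    have h0 : Nat.find hex ≠ 0 := fun h => one_ne_zero (α := Module.End F E)
      ((pow_zero T).symm.trans (h ▸ Nat.find_spec hex))
    have h1 : Nat.find hex ≠ 1 := fun h => hTne ((pow_one T).symm.trans (h ▸ Nat.find_spec hex))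
    omega
  obtain ⟨y, hy⟩ : ∃ y, (T ^ (n + 1)) y ≠ 0 := by
    by_contra h
    push Not at h
    exact Nat.find_min hex (m := n + 1) (by omega) (LinearMap.ext h)
  let v : E := (T ^ n) y
  have hTv : T v ≠ 0 := by
    rw [← Module.End.mul_apply, ← pow_succ']
    exact hy
  have hTTv : T (T v) = 0 := by
    have h2 : T * (T * T ^ n) = T ^ (n + 2) := by rw [← pow_succ', ← pow_succ']
    show T (T ((T ^ n) y)) = 0
    rw [← Module.End.mul_apply, ← Module.End.mul_apply, mul_assoc, h2, ← hn, Nat.find_spec hex,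
      LinearMap.zero_apply]
  obtain ⟨c, hc⟩ := hfix (T v) (sub_eq_zero.1 hTTv)
  have hc0 : algebraMap F E c ≠ 0 := hc ▸ hTv
  refine ⟨σ, v / algebraMap F E c, ?_, hfix⟩
  rw [map_div₀, AlgEquiv.commutes, div_add_one hc0]
  congr 1
  rw [hc]
  show σ v = v + (σ v - v)
  ring

/-- A totally ramified extension of degree `p` has no integral element moved by `1`. -/
theorem false_of_integral (p : ℕ) [Fact p.Prime] {A B F E : Type u} [CommRing A] [IsDomain A]
    [IsPrincipalIdealRing A] [CommRing B] [IsDedekindDomain B] [Algebra A B] [Module.Finite A B]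
    [Module.IsTorsionFree A B] [Field F] [Field E] [Algebra A F] [IsFractionRing A F] [Algebra B E]
    [IsFractionRing B E] [Algebra F E] [Algebra A E] [IsScalarTower A B E] [IsScalarTower A F E]
    [FiniteDimensional F E] (hdeg : Module.finrank F E = p) (M : Ideal B) [M.IsMaximal]
    (hram : M.ramificationIdx A = p) (σ : E ≃ₐ[F] E) {x : E} (hx : σ x = x + 1) (hint : IsIntegral A x) :
    False := by
  haveI : IsIntegralClosure B A E := IsIntegralClosure.of_isIntegrallyClosed B A E
  obtain ⟨xb, hxb⟩ := (IsIntegralClosure.isIntegral_iff (A := B)).1 hint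
  let τ := galRestrict A F E B σ
  have hτ : τ xb = xb + 1 := IsFractionRing.injective B E (by
    rw [algebraMap_galRestrict_apply, map_add, map_one, hxb, hx])
  let p0 := M.under A
  have hfin : (p0.primesOver B).Finite := Algebra.QuasiFinite.finite_primesOver p0
  letI : Fintype (p0.primesOver B) := hfin.fintype
  have hsum := Ideal.sum_ramification_inertia_eq_finrank p0 B
  have hrk : Module.finrank A B = p := (IsFractionRing.finrank_eq A F B E).symm.trans hdeg
  rw [hrk] at hsum
  have hM : M ∈ p0.primesOver B := ⟨inferInstance, ⟨rfl⟩⟩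
  rw [← Finset.add_sum_erase _ _ (Finset.mem_univ (⟨M, hM⟩ : p0.primesOver B))] at hsum
  simp only [hram] at hsum
  have hp := (Fact.out : p.Prime).pos
  have hf1 : M.inertiaDeg A = 1 := by
    have := M.inertiaDeg_pos A
    have := Nat.le_of_mul_le_mul_left ((Nat.le.intro hsum).trans_eq (mul_one p).symm) hp
    omega
  rw [hf1, mul_one, Nat.add_eq_left, Finset.sum_eq_zero_iff] at hsum
  have huniq : ∀ Q : p0.primesOver B, Q.1 = M := fun Q => by
    by_contra hne
    haveI := Q.2.1
    exact (Nat.mul_pos (Q.1.ramificationIdx_pos A) (Q.1.inertiaDeg_pos A)).ne'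
      (hsum Q (Finset.mem_erase.2 ⟨fun h => hne (congrArg Subtype.val h), Finset.mem_univ _⟩))
  haveI : p0.IsMaximal := inferInstance
  have hτM : M.comap (τ : B →+* B) = M := huniq ⟨M.comap (τ : B →+* B), inferInstance, ⟨by
    ext a
    simp only [Ideal.under, Ideal.mem_comap, p0]
    exact (by rw [RingHom.coe_coe, τ.commutes])⟩⟩
  haveI : M.LiesOver p0 := hM.2
  letI : Field (A ⧸ p0) := Ideal.Quotient.field p0
  letI : Field (B ⧸ M) := Ideal.Quotient.field M
  have hfr : Module.finrank (A ⧸ p0) (B ⧸ M) = 1 :=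
    (Ideal.inertiaDeg_eq_of_isMaximal (R := A) p0 M).symm.trans hf1
  obtain ⟨c, hc⟩ := (finrank_eq_one_iff_of_nonzero' (1 : B ⧸ M) one_ne_zero).1 hfr (Ideal.Quotient.mk M xb)
  obtain ⟨a, rfl⟩ := Ideal.Quotient.mk_surjective c
  have hmem : xb - algebraMap A B a ∈ M := by
    rw [← Ideal.Quotient.eq_zero_iff_mem, map_sub, ← hc, sub_eq_zero, Algebra.smul_def, mul_one]
    rfl
  have hmem' : τ (xb - algebraMap A B a) ∈ M := by
    rw [← hτM] at hmem
    exact hmem
  rw [map_sub, τ.commutes, hτ] at hmem'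
  have h1 := M.sub_mem hmem' hmem
  rw [show xb + 1 - algebraMap A B a - (xb - algebraMap A B a) = 1 by ring] at h1
  exact (Ideal.IsPrime.ne_top inferInstance) ((M.eq_top_iff_one).2 h1)

end Groth.Agent.Lib.ASNormal98.Basic
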